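import Cfsg.Agent.Lib.Golay.Search
import Cfsg.Agent.Lib.Golay.SmallGroups
import Cfsg.Prelude.Def_KGroupFacts
import Mathlib.GroupTheory.Sylow

/-! Automorphisms of subgroups of M24 bounded by a certificate: after an inner automorphism the images of a
normaliser chain of generators lie in a short list, cut down by relations (owner helper8). -/
set_option autoImplicit false
set_option linter.all false
set_option maxRecDepth 100000

namespace CfsgLib.Golay.OutM

open Cfsg CfsgLib.Golay CfsgLib.Golay.TwoFusion CfsgLib.Golay.Search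
open scoped Pointwise

attribute [local irreducible] sols toPerm comp powP

/-- equality of packed permutations on all positions -/
def eqc (a b : ℕ) : Bool := (List.range 24).all fun i => img a i == img b i

theorem eqc_spec {a b : ℕ} (ha : okPerm a = true) (hb : okPerm b = true) (h : eqc a b = true) :
    toPerm a = toPerm b := by
  simp only [eqc, List.all_eq_true, List.mem_range, beq_iff_eq] at h
  refine Equiv.ext fun p => idx_inj.1 ?_
  rw [idx_toPerm ha, idx_toPerm hb, h _ (idx_lt p)]

/-- the product along a word -/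
def evW (gs : List ℕ) : List ℕ → ℕ
  | [] => idp
  | i :: w => comp (gs.getD i idp) (evW gs w)

theorem getD_ok {gs : List ℕ} (h : ∀ g ∈ gs, okPerm g = true) (i : ℕ) : okPerm (gs.getD i idp) = true := by
  by_cases hi : i < gs.length
  · rw [List.getD_eq_getElem _ _ hi]; exact h _ (List.getElem_mem hi)
  · rw [List.getD_eq_default _ _ (by omega)]; exact okPerm_idp

theorem evW_spec {gs : List ℕ} (h : ∀ g ∈ gs, okPerm g = true) : ∀ w : List ℕ,
    okPerm (evW gs w) = true ∧ toPerm (evW gs w) = (w.map fun i => toPerm (gs.getD i idp)).prod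
  | [] => ⟨okPerm_idp, by rw [evW, toPerm_idp]; rfl⟩
  | i :: w => by
    obtain ⟨h1, h2⟩ := evW_spec h w
    have hc := okPerm_comp (getD_ok h i) h1
    exact ⟨hc, by rw [evW, comp_spec (getD_ok h i) h1 hc, h2, List.map_cons, List.prod_cons]⟩

/-- the certificate -/
structure Data where
  /-- the prime -/
  p : ℕ
  /-- an element of order p -/
  s : ℕ
  /-- multiplier -/
  r : ℕ
  /-- an element acting on s by r -/
  t : ℕ
  /-- further generators with their multipliers on t -/
  us : List (ℕ × ℕ)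
  /-- representatives of the exponents -/
  K : List ℕ
  /-- words with exponents -/
  words : List (List ℕ × ℕ)
  /-- the allowed image lists -/
  L : List (List ℕ)

/-- the generators -/
def Data.gens (c : Data) : List ℕ := c.s :: c.t :: c.us.map Prod.fst

/-- candidate images of the further generators -/
def cands (C : List ℕ) : List (ℕ × ℕ) → List (List ℕ)
  | [] => [[]]
  | (u, _) :: us => C.flatMap fun x => (cands C us).map (comp u x :: ·)

/-- agreement of lists of packed permutations -/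
def eqL : List ℕ → List ℕ → Bool
  | [], [] => true
  | a :: as, b :: bs => okPerm a && okPerm b && eqc a b && eqL as bs
  | _, _ => false

theorem eqL_spec : ∀ {a b : List ℕ}, eqL a b = true → ∀ i, toPerm (a.getD i idp) = toPerm (b.getD i idp)
  | [], [], _, i => rfl
  | a :: as, b :: bs, h, i => by
    simp only [eqL, Bool.and_eq_true] at h
    obtain ⟨⟨⟨ha, hb⟩, he⟩, hr⟩ := h
    cases i with
    | zero => simpa using eqc_spec ha hb he
    | succ i => simpa using eqL_spec hr i
  | [], _ :: _, h, _ => by simp [eqL] at h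
  | _ :: _, [], h, _ => by simp [eqL] at h

/-- does an image list satisfy the relations -/
noncomputable def passB (c : Data) (g : List ℕ) : Bool :=
  c.words.all fun w => isIdB (powP (evW g w.1) w.2)

/-- a list containing every element of `M24` commuting with `x` -/
def Cover (x : ℕ) (L : List ℕ) : Prop :=
  ∀ g ∈ M24, g * toPerm x = toPerm x * g → ∃ q ∈ L, okPerm q = true ∧ toPerm q = g

/-- transport of a search for a conjugate -/
noncomputable def coverB (x y a : ℕ) (Y L : List ℕ) : Bool :=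
  okPerm x && okPerm y && inM24 a && conjB a x y && (Y.all okPerm) &&
    Y.all fun r => L.any fun q => okPerm q && eqc (comp a q) (comp r a)

theorem cover_of {x y a : ℕ} {Y L : List ℕ} (hY : sols y y = Y) (h : coverB x y a Y L = true) : Cover x L := by
  simp only [coverB, Bool.and_eq_true, List.all_eq_true, List.any_eq_true] at h
  obtain ⟨⟨⟨⟨⟨hx, hy⟩, hai⟩, hc⟩, hYo⟩, hall⟩ := h
  have ha := okPerm_of_inM24 hai
  have hA := toPerm_mem_M24 hai
  have e := (conjB_iff ha hx hy).1 hc
  intro g hg hgx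
  have e2 : toPerm a * g * (toPerm a)⁻¹ * toPerm y = toPerm y * (toPerm a * g * (toPerm a)⁻¹) := by
    have hy' : toPerm y = toPerm a * toPerm x * (toPerm a)⁻¹ := by rw [e, mul_inv_cancel_right]
    rw [hy']
    simp only [mul_assoc, inv_mul_cancel_left]
    rw [← mul_assoc g, hgx, mul_assoc]
  obtain ⟨r, hr, er⟩ := (mem_sols hy hy _).2 ⟨mul_mem (mul_mem hA hg) (inv_mem hA), e2⟩
  rw [hY] at hr
  obtain ⟨q, hq, hqo, he⟩ := hall r hr
  have hro := hYo r hr
  refine ⟨q, hq, hqo, ?_⟩
  have e3 := eqc_spec (okPerm_comp ha hqo) (okPerm_comp hro ha) he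
  rw [comp_spec ha hqo (okPerm_comp ha hqo), comp_spec hro ha (okPerm_comp hro ha), er,
    inv_mul_cancel_right] at e3
  exact mul_left_cancel e3

/-- the check of a certificate -/
noncomputable def chk (c : Data) (B : ℕ → Bool) (cs ct : List ℕ) : Bool :=
  c.gens.all (fun g => inM24 g && B g) &&
  isIdB (powP c.s c.p) && !isIdB c.s &&
  conjB c.t c.s (powP c.s c.r) && !(c.r % c.p == 0) && !(c.r % c.p == 1) &&
  (cs.filter B).all (fun q => (List.range c.p).any fun i => eqc q (powP c.s i)) &&
  (List.range c.p).all (fun m => m == 0 || c.K.any fun k => (List.range c.p).any fun j => k * c.r ^ j % c.p == m) &&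
  c.us.all (fun ue => conjB ue.1 c.t (powP c.t ue.2)) &&
  passB c c.gens &&
  (c.K.all fun k => (cands (ct.filter B) c.us).all fun l =>
    !passB c (powP c.s k :: c.t :: l) || c.L.any fun g => eqL (powP c.s k :: c.t :: l) g)

theorem zpow_commute_of_generates {G : Type*} [Group G] {x y : G} {k : ℕ} (hk : y ∈ Subgroup.zpowers (x ^ k))
    {g : G} (h : Commute g (x ^ k)) : Commute g y := by
  obtain ⟨i, rfl⟩ := Subgroup.mem_zpowers_iff.1 hk
  exact h.zpow_right i

theorem mem_zpowers_pow {G : Type*} [Group G] {x : G} {p : ℕ} (hp : p.Prime) (hx : orderOf x = p) {k : ℕ}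
    (hk : ¬ p ∣ k) : x ∈ Subgroup.zpowers (x ^ k) := by
  have hc : Nat.Coprime k p := ((hp.coprime_iff_not_dvd).2 hk).symm
  obtain ⟨m, hm⟩ := exists_pow_eq_self_of_coprime (x := x) (n := k) (hx.symm ▸ hc)
  exact Subgroup.mem_zpowers_iff.2 ⟨m, by rw [zpow_natCast]; exact hm⟩

section
variable {H : Subgroup (Equiv.Perm GolayPt)} {c : Data} {B : ℕ → Bool} {cs ct : List ℕ}

/-- what the bound needs -/
structure Hyp (H : Subgroup (Equiv.Perm GolayPt)) (c : Data) (B : ℕ → Bool) (cs ct : List ℕ) : Prop where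
  prime : c.p.Prime
  le : H ≤ M24
  spec : ∀ q, okPerm q = true → toPerm q ∈ M24 → (B q = true ↔ toPerm q ∈ H)
  sq : ¬ c.p ^ 2 ∣ Nat.card H
  ok : chk c B cs ct = true
  covs : Cover c.s cs
  covt : Cover c.t ct
  gen : Subgroup.closure {x | ∃ g ∈ c.gens, toPerm g = x} = H

theorem Hyp.mem_gens (h : Hyp H c B cs ct) (i : ℕ) :
    okPerm (c.gens.getD i idp) = true ∧ toPerm (c.gens.getD i idp) ∈ H := by
  by_cases hi : i < c.gens.length
  · rw [List.getD_eq_getElem _ _ hi]
    have hc := h.ok
    simp only [chk, Bool.and_eq_true, List.all_eq_true] at hc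
    have := hc.1.1.1.1.1.1.1.1.1.1 _ (List.getElem_mem hi)
    exact ⟨okPerm_of_inM24 this.1, (h.spec _ (okPerm_of_inM24 this.1) (toPerm_mem_M24 this.1)).1 this.2⟩
  · rw [List.getD_eq_default _ _ (by omega), toPerm_idp]
    exact ⟨okPerm_idp, one_mem _⟩

/-- the generators inside the group -/
noncomputable def gH (h : Hyp H c B cs ct) (i : ℕ) : ↥H := ⟨toPerm (c.gens.getD i idp), (h.mem_gens i).2⟩

theorem Hyp.mem_filter (h : Hyp H c B cs ct) {x : ℕ} {L : List ℕ} (hL : Cover x L) {g : Equiv.Perm GolayPt}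
    (hg : g ∈ H) (e : g * toPerm x = toPerm x * g) : ∃ q ∈ L.filter B, okPerm q = true ∧ toPerm q = g := by
  obtain ⟨q, hq, hqo, rfl⟩ := hL g (h.le hg) e
  exact ⟨q, List.mem_filter.2 ⟨hq, (h.spec q hqo (h.le hg)).2 hg⟩, hqo, rfl⟩

set_option maxHeartbeats 1000000 in
/-- every automorphism is, up to an inner one, one of the listed image lists on the generators -/
theorem exists_image (h : Hyp H c B cs ct) (φ : MulAut ↥H) :
    ∃ g : ↥H, ∃ l ∈ c.L, ∀ i, ((g * φ (gH h i) * g⁻¹ : ↥H) : Equiv.Perm GolayPt) = toPerm (l.getD i idp) := by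
  classical
  haveI : Fact c.p.Prime := ⟨h.prime⟩
  have hc := h.ok
  simp only [chk, Bool.and_eq_true, Bool.not_eq_true', List.all_eq_true, List.any_eq_true, Bool.or_eq_true,
    List.mem_range, beq_iff_eq, beq_eq_false_iff_ne, ne_eq] at hc
  obtain ⟨⟨⟨⟨⟨⟨⟨⟨⟨⟨hg, hsp⟩, hs1⟩, hts⟩, hr0⟩, hr1⟩, hcs⟩, hK⟩, hus⟩, hpass⟩, hall⟩ := hc
  have oks : okPerm c.s = true := okPerm_of_inM24 (hg c.s (by simp [Data.gens])).1
  have okt : okPerm c.t = true := okPerm_of_inM24 (hg c.t (by simp [Data.gens])).1
  set S : ↥H := gH h 0 with hS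
  set T : ↥H := gH h 1 with hT
  have eS : (S : Equiv.Perm GolayPt) = toPerm c.s := by simp [hS, gH, Data.gens]
  have eT : (T : Equiv.Perm GolayPt) = toPerm c.t := by simp [hT, gH, Data.gens]
  have hSp : S ^ c.p = 1 := by
    apply Subtype.ext
    rw [SubgroupClass.coe_pow, eS, ← (powP_spec oks c.p).2, (isIdB_iff (powP_spec oks c.p).1).1 hsp]
    rfl
  have hS1 : S ≠ 1 := by
    intro e
    have := congrArg (Subtype.val) e
    rw [eS] at this
    rw [(isIdB_iff oks).2 this] at hs1
    simp at hs1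
  have oS : orderOf S = c.p := orderOf_eq_prime hSp hS1
  have hTS : T * S = S ^ c.r * T := by
    apply Subtype.ext
    rw [Subgroup.coe_mul, Subgroup.coe_mul, SubgroupClass.coe_pow, eS, eT, ← (powP_spec oks c.r).2]
    exact (conjB_iff okt oks (powP_spec oks c.r).1).1 hts
  have hcent : ∀ x : ↥H, Commute x S → ∃ i : ℕ, x = S ^ i := by
    intro x hx
    obtain ⟨q, hq, hqo, e⟩ := h.mem_filter h.covs x.2 (by rw [← eS]; exact congrArg Subtype.val hx.eq)
    obtain ⟨i, -, hi⟩ := hcs q hq
    exact ⟨i, Subtype.ext (by rw [SubgroupClass.coe_pow, eS, ← (powP_spec oks i).2, ← e,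
      eqc_spec hqo (powP_spec oks i).1 hi])⟩
  -- the image of the element of order p
  have hsyl : ∃ g : ↥H, ∃ k ∈ c.K, g * φ S * g⁻¹ = S ^ k := by
    have hfac : (Nat.card ↥H).factorization c.p = 1 := by
      have hd : c.p ∣ Nat.card ↥H := oS ▸ orderOf_dvd_natCard S
      have h1 : 1 ≤ (Nat.card ↥H).factorization c.p :=
        (h.prime.dvd_iff_one_le_factorization Nat.card_pos.ne').1 hd
      have h2 : ¬ 2 ≤ (Nat.card ↥H).factorization c.p := fun h2 =>
        h.sq ((h.prime.pow_dvd_iff_le_factorization Nat.card_pos.ne').2 h2)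
      omega
    have ox : orderOf (φ S) = c.p := by rw [MulEquiv.orderOf_eq, oS]
    let P : Sylow c.p ↥H := Sylow.ofCard (Subgroup.zpowers (φ S)) (by rw [hfac, pow_one, Nat.card_zpowers, ox])
    let Q : Sylow c.p ↥H := Sylow.ofCard (Subgroup.zpowers S) (by rw [hfac, pow_one, Nat.card_zpowers, oS])
    obtain ⟨g, hgPQ⟩ := MulAction.exists_smul_eq ↥H P Q
    have hm : g * φ S * g⁻¹ ∈ Subgroup.zpowers S := by
      have : g * φ S * g⁻¹ ∈ (g • P : Sylow c.p ↥H).1 := ⟨φ S, Subgroup.mem_zpowers _, rfl⟩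
      rw [hgPQ] at this
      exact this
    obtain ⟨m, hm⟩ := (Submonoid.mem_powers_iff _ _).1 (mem_powers_iff_mem_zpowers.2 hm)
    have hm0 : m % c.p ≠ 0 := by
      intro e
      rw [← pow_mod_orderOf, oS, e, pow_zero] at hm
      have : φ S = 1 := by
        have := congrArg (fun z => g⁻¹ * z * g) hm
        simpa [mul_assoc] using this.symm
      exact hS1 (φ.injective (this.trans (map_one φ).symm))
    rcases hK (m % c.p) (Nat.mod_lt _ h.prime.pos) with h0 | ⟨k, hk, j, -, hkj⟩
    · exact absurd h0 hm0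
    · -- S ^ m = T^j S^k T^-j
      have hTj : ∀ j : ℕ, ∀ n : ℕ, T ^ j * S ^ n = S ^ (n * c.r ^ j) * T ^ j := by
        intro j
        induction j with
        | zero => intro n; simp
        | succ j ih =>
          intro n
          have h1 : T * S ^ n = S ^ (c.r * n) * T := by
            rw [pow_mul]
            exact (SemiconjBy.pow_right (show SemiconjBy T S (S ^ c.r) from hTS) n).eq
          rw [pow_succ, mul_assoc, h1, ← mul_assoc, ih, mul_assoc, ← pow_succ]
          congr 2
          ring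
      refine ⟨(T ^ j)⁻¹ * g, k, hk, ?_⟩
      calc (T ^ j)⁻¹ * g * φ S * ((T ^ j)⁻¹ * g)⁻¹ = (T ^ j)⁻¹ * (g * φ S * g⁻¹) * T ^ j := by group
        _ = (T ^ j)⁻¹ * (S ^ (k * c.r ^ j) * T ^ j) := by
          rw [← hm, mul_assoc]
          congr 2
          rw [← pow_mod_orderOf S m, ← pow_mod_orderOf S (k * c.r ^ j), oS, hkj]
        _ = S ^ k := by rw [← hTj, inv_mul_cancel_left]
  obtain ⟨g, k, hk, hgk⟩ := hsyl
  have hkp : ¬ c.p ∣ k := by
    intro hd
    have e1 : S ^ k = 1 := orderOf_dvd_iff_pow_eq_one.1 (oS.symm ▸ hd)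
    rw [e1] at hgk
    have : φ S = 1 := by
      have := congrArg (fun z => g⁻¹ * z * g) hgk
      simpa [mul_assoc] using this
    exact hS1 (φ.injective (this.trans (map_one φ).symm))
  set ψ : ↥H →* ↥H := (MulAut.conj g).toMonoidHom.comp φ.toMonoidHom with hψ
  have ψS : ψ S = S ^ k := hgk
  -- move the second generator back
  obtain ⟨i, hi⟩ := hcent (ψ T * T⁻¹) (by
    have hkr : ¬ c.p ∣ k * c.r := fun hd => ((h.prime.dvd_mul).1 hd).elim hkp (fun hd' => by
      obtain ⟨x, hx⟩ := hd'
      rw [hx, Nat.mul_mod_right] at hr0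
      exact hr0 rfl)
    refine zpow_commute_of_generates (mem_zpowers_pow h.prime oS hkr) ?_
    rw [pow_mul]
    have e1 : ψ T * S ^ k = (S ^ k) ^ c.r * ψ T := by
      rw [← ψS, ← map_mul, hTS, map_mul, map_pow]
    have e2 : T * S ^ k = (S ^ k) ^ c.r * T := by
      rw [← pow_mul, mul_comm k, pow_mul]
      exact (SemiconjBy.pow_right (show SemiconjBy T S (S ^ c.r) from hTS) k).eq
    have e3 : T⁻¹ * (S ^ k) ^ c.r = S ^ k * T⁻¹ := by
      rw [eq_mul_inv_iff_mul_eq, mul_assoc, ← e2, inv_mul_cancel_left]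
    show ψ T * T⁻¹ * (S ^ k) ^ c.r = (S ^ k) ^ c.r * (ψ T * T⁻¹)
    rw [mul_assoc, e3, ← mul_assoc, e1, mul_assoc])
  have ψT : ψ T = S ^ i * T := by rw [← hi, inv_mul_cancel_right]
  obtain ⟨l0, hl0⟩ : ∃ l0 : ℕ, (S ^ l0) * (S ^ i * T) * (S ^ l0)⁻¹ = T := by
    obtain ⟨l0, hd⟩ : ∃ l0 : ℕ, (l0 + i : ZMod c.p) = c.r * l0 := by
      have hr : ((c.r : ZMod c.p) - 1) ≠ 0 := by
        intro e
        have hr1' : ((c.r : ℕ) : ZMod c.p) = ((1 : ℕ) : ZMod c.p) := by simpa using sub_eq_zero.1 e
        rw [ZMod.natCast_eq_natCast_iff', Nat.one_mod_eq_one.2 h.prime.ne_one] at hr1'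
        exact hr1 hr1'
      refine ⟨(((i : ZMod c.p) / ((c.r : ZMod c.p) - 1))).val, ?_⟩
      rw [ZMod.natCast_zmod_val]
      field_simp
      ring
    refine ⟨l0, ?_⟩
    rw [mul_inv_eq_iff_eq_mul, ← mul_assoc, ← pow_add]
    rw [(SemiconjBy.pow_right (show SemiconjBy T S (S ^ c.r) from hTS) l0).eq, ← pow_mul]
    congr 1
    rw [← pow_mod_orderOf S (l0 + i), ← pow_mod_orderOf S (c.r * l0), oS]
    refine congrArg _ ((ZMod.natCast_eq_natCast_iff' _ _ c.p).1 ?_)
    push_cast
    exact hd
  set g' := S ^ l0 * g with hg'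
  set χ : ↥H →* ↥H := (MulAut.conj g').toMonoidHom.comp φ.toMonoidHom with hχ
  have hχψ : ∀ x, χ x = S ^ l0 * ψ x * (S ^ l0)⁻¹ := by
    intro x
    show g' * φ x * g'⁻¹ = S ^ l0 * (g * φ x * g⁻¹) * (S ^ l0)⁻¹
    rw [hg']; group
  have χS : χ S = S ^ k := by
    rw [hχψ, ψS, ← pow_add, Nat.add_comm, pow_add, mul_inv_cancel_right]
  have χT : χ T = T := by rw [hχψ, ψT]; exact hl0
  -- the further generators
  have step : ∀ (us : List (ℕ × ℕ)) (n : ℕ), (∀ j, us.getD j (idp, 1) = c.us.getD (n + j) (idp, 1)) →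
      (∀ ue ∈ us, conjB ue.1 c.t (powP c.t ue.2) = true ∧ okPerm ue.1 = true) →
      ∃ l ∈ cands (ct.filter B) us, l.length = us.length ∧ (∀ q ∈ l, okPerm q = true) ∧
        ∀ j < us.length, ((χ (gH h (n + j + 2)) : ↥H) : Equiv.Perm GolayPt) = toPerm (l.getD j idp) := by
    intro us
    induction us with
    | nil => intro n _ _; exact ⟨[], List.mem_singleton_self [], rfl, fun q hq => absurd hq List.not_mem_nil, fun j hj => absurd hj (Nat.not_lt_zero j)⟩
    | cons ue us ih =>
      intro n heq hok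
      obtain ⟨l, hl, hlen, hlok, hlv⟩ := ih (n + 1) (fun j => by
          have := heq (j + 1); simpa [Nat.add_assoc, Nat.add_comm 1 j] using this)
        (fun x hx => hok x (List.mem_cons_of_mem _ hx))
      obtain ⟨hcj, huo⟩ := hok ue List.mem_cons_self
      set U : ↥H := gH h (n + 2) with hU
      have eU : (U : Equiv.Perm GolayPt) = toPerm ue.1 := by
        have := heq 0
        simp only [List.getD_cons_zero, Nat.add_zero] at this
        rw [this]
        show toPerm (c.gens.getD (n + 2) idp) = _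
        simp only [Data.gens, List.getD_cons_succ]
        exact congrArg toPerm (List.getD_map (f := Prod.fst) (l := c.us) (d := (idp, 1)))
      have hUT : U * T = T ^ ue.2 * U := by
        apply Subtype.ext
        rw [Subgroup.coe_mul, Subgroup.coe_mul, SubgroupClass.coe_pow, eU, eT, ← (powP_spec okt ue.2).2]
        exact (conjB_iff huo okt (powP_spec okt ue.2).1).1 hcj
      have hUT' : χ U * T = T ^ ue.2 * χ U := by
        have := congrArg χ hUT
        rwa [map_mul, map_mul, map_pow, χT] at this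
      have hcm : (U⁻¹ * χ U) * T = T * (U⁻¹ * χ U) := by
        rw [mul_assoc, hUT', ← mul_assoc, ← mul_assoc]
        congr 1
        rw [inv_mul_eq_iff_eq_mul, ← mul_assoc, hUT, mul_inv_cancel_right]
      obtain ⟨q, hq, hqo, eq⟩ := h.mem_filter h.covt (U⁻¹ * χ U).2 (by rw [← eT]; exact congrArg Subtype.val hcm)
      refine ⟨comp ue.1 q :: l, ?_, by simp [hlen], ?_, ?_⟩
      · simp only [cands, List.mem_flatMap, List.mem_map]
        exact ⟨q, hq, l, hl, rfl⟩
      · intro x hx
        rcases List.mem_cons.1 hx with rfl | hx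
        · exact okPerm_comp huo hqo
        · exact hlok x hx
      · intro j hj
        cases j with
        | zero =>
          rw [List.getD_cons_zero, comp_spec huo hqo (okPerm_comp huo hqo), eq, ← eU, ← Subgroup.coe_mul,
            mul_inv_cancel_left]
        | succ j =>
          rw [List.getD_cons_succ, ← hlv j (by simpa using hj)]
          congr 3
          omega
  obtain ⟨l, hl, hlen, hlok, hlv⟩ := step c.us 0 (fun j => by rw [Nat.zero_add]) (fun ue hue =>
    ⟨hus ue hue, okPerm_of_inM24 (hg ue.1 (by simp [Data.gens]; exact Or.inr (Or.inr ⟨ue.2, hue⟩))).1⟩)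
  set L' := powP c.s k :: c.t :: l with hL'
  have hval : ∀ i, ((χ (gH h i) : ↥H) : Equiv.Perm GolayPt) = toPerm (L'.getD i idp) := by
    intro i
    match i with
    | 0 => rw [← hS, χS, SubgroupClass.coe_pow, eS, hL', List.getD_cons_zero, (powP_spec oks k).2]
    | 1 => rw [← hT, χT, eT, hL']; rfl
    | j + 2 =>
      rw [hL', List.getD_cons_succ, List.getD_cons_succ]
      by_cases hj : j < c.us.length
      · have := hlv j hj
        rwa [Nat.zero_add] at this
      · rw [List.getD_eq_default _ _ (by omega)]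
        have : gH h (j + 2) = 1 := Subtype.ext (by
          show toPerm (c.gens.getD (j + 2) idp) = 1
          rw [List.getD_eq_default _ _ (by simp [Data.gens]; omega), toPerm_idp])
        rw [this, map_one, toPerm_idp]; rfl
  have hok' : ∀ q ∈ L', okPerm q = true := by
    intro q hq
    rcases List.mem_cons.1 hq with rfl | hq
    · exact (powP_spec oks k).1
    rcases List.mem_cons.1 hq with rfl | hq
    exacts [okt, hlok q hq]
  have hokg : ∀ q ∈ c.gens, okPerm q = true := fun q hq => okPerm_of_inM24 (hg q hq).1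
  have hp' : passB c L' = true := by
    simp only [passB, List.all_eq_true] at hpass ⊢
    intro w hw
    obtain ⟨a1, a2⟩ := evW_spec hok' w.1
    obtain ⟨b1, b2⟩ := evW_spec hokg w.1
    rw [isIdB_iff (powP_spec a1 w.2).1, (powP_spec a1 w.2).2, a2]
    have e := (isIdB_iff (powP_spec b1 w.2).1).1 (hpass w hw)
    rw [(powP_spec b1 w.2).2, b2] at e
    have e1 : ((w.1.map (gH h)).prod) ^ w.2 = 1 := by
      apply Subtype.ext
      rw [SubgroupClass.coe_pow, Subgroup.val_list_prod, List.map_map]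
      exact e
    have e2 := congrArg (fun z => ((χ z : ↥H) : Equiv.Perm GolayPt)) e1
    simp only [map_pow, map_list_prod, map_one, SubgroupClass.coe_pow, Subgroup.val_list_prod, List.map_map,
      OneMemClass.coe_one] at e2
    rw [← e2]
    congr 2
    exact List.map_congr_left fun i _ => (hval i).symm
  rcases hall k hk l hl with hf | ⟨m, hm, he⟩
  · rw [hp'] at hf; simp at hf
  · refine ⟨g', m, hm, fun i => ?_⟩
    rw [← eqL_spec he i, ← hval i]
    rfl

/-- homomorphisms agreeing on the generators are equal -/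
theorem hom_ext (h : Hyp H c B cs ct) {f f' : ↥H →* ↥H} (e : ∀ i, f (gH h i) = f' (gH h i)) : f = f' := by
  refine MonoidHom.ext fun x => ?_
  have hx : (x : Equiv.Perm GolayPt) ∈ Subgroup.closure {x | ∃ g ∈ c.gens, toPerm g = x} := h.gen.symm ▸ x.2
  have key : ∀ (v : Equiv.Perm GolayPt), v ∈ Subgroup.closure {x | ∃ g ∈ c.gens, toPerm g = x} →
      ∀ hv : v ∈ H, f ⟨v, hv⟩ = f' ⟨v, hv⟩ := by
    intro v hv
    induction hv using Subgroup.closure_induction with
    | mem v hv =>
      intro hm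
      obtain ⟨q, hq, rfl⟩ := hv
      obtain ⟨i, hi, rfl⟩ := List.getElem_of_mem hq
      have : (⟨toPerm c.gens[i], hm⟩ : ↥H) = gH h i := Subtype.ext (by
        show _ = toPerm (c.gens.getD i idp)
        rw [List.getD_eq_getElem _ _ hi])
      rw [this]
      exact e i
    | one => intro hm; exact (map_one f).trans (map_one f').symm
    | mul a b ha hb iha ihb =>
      intro hm
      have ha' : a ∈ H := h.gen ▸ ha
      have hb' : b ∈ H := h.gen ▸ hb
      rw [show (⟨a * b, hm⟩ : ↥H) = ⟨a, ha'⟩ * ⟨b, hb'⟩ from rfl, map_mul, map_mul, iha ha', ihb hb']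
    | inv a ha iha =>
      intro hm
      have ha' : a ∈ H := h.gen ▸ ha
      rw [show (⟨a⁻¹, hm⟩ : ↥H) = (⟨a, ha'⟩ : ↥H)⁻¹ from rfl, map_inv, map_inv, iha ha']
  exact key _ hx x.2

/-- at most as many outer classes as listed images -/
theorem card_out_le (h : Hyp H c B cs ct) : Finite (Out ↥H) ∧ Nat.card (Out ↥H) ≤ c.L.length := by
  classical
  have hc : ∀ φ : MulAut ↥H, ∃ g : ↥H, ∃ m : Fin c.L.length,
      ∀ i, ((g * φ (gH h i) * g⁻¹ : ↥H) : Equiv.Perm GolayPt) = toPerm ((c.L[m.1]).getD i idp) := by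
    intro φ
    obtain ⟨g, l, hl, e⟩ := exists_image h φ
    obtain ⟨m, hm, rfl⟩ := List.getElem_of_mem hl
    exact ⟨g, ⟨m, hm⟩, e⟩
  choose gg mm hmm using hc
  have hsame : ∀ a b : MulAut ↥H, mm a = mm b → (QuotientGroup.mk a : Out ↥H) = QuotientGroup.mk b := by
    intro a b hab
    have e : (MulAut.conj (gg a) * a).toMonoidHom = (MulAut.conj (gg b) * b).toMonoidHom := by
      refine hom_ext h fun i => Subtype.ext ?_
      show ((gg a * a (gH h i) * (gg a)⁻¹ : ↥H) : Equiv.Perm GolayPt) = (gg b * b (gH h i) * (gg b)⁻¹ : ↥H)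
      rw [hmm a i, hmm b i, hab]
    have e' : MulAut.conj (gg a) * a = MulAut.conj (gg b) * b :=
      MulEquiv.ext fun x => DFunLike.congr_fun e x
    have hq := congrArg (fun z : MulAut ↥H => (QuotientGroup.mk z : Out ↥H)) e'
    have h1 : ∀ v : ↥H, (QuotientGroup.mk (MulAut.conj v) : Out ↥H) = 1 :=
      fun v => (QuotientGroup.eq_one_iff _).2 ⟨v, rfl⟩
    simpa [QuotientGroup.mk_mul, h1] using hq
  have hinj : Function.Injective fun x : Out ↥H => mm x.out := by
    intro x y hxy
    have := hsame _ _ hxy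
    simpa using this
  refine ⟨Finite.of_injective _ hinj, ?_⟩
  simpa using Nat.card_le_card_of_injective _ hinj

theorem card_out_one (h : Hyp H c B cs ct) (hl : c.L.length = 1) : Nat.card (Out ↥H) = 1 := by
  obtain ⟨hf, hle⟩ := card_out_le h
  have : 0 < Nat.card (Out ↥H) := Nat.card_pos
  omega

/-- two classes: an element of `M24` outside the group normalising it gives an outer automorphism -/
theorem card_out_two (h : Hyp H c B cs ct) (hl : c.L.length = 2) (hs : ∀ q ∈ cs, B q = true)
    {a : Equiv.Perm GolayPt} (ha : a ∈ M24) (haH : a ∉ H) (hn : ∀ x, x ∈ H ↔ a * x * a⁻¹ ∈ H) :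
    Nat.card (Out ↥H) = 2 := by
  obtain ⟨hf, hle⟩ := card_out_le h
  let θ : MulAut ↥H :=
    { toFun := fun x => ⟨a * x.1 * a⁻¹, (hn x.1).1 x.2⟩
      invFun := fun x => ⟨a⁻¹ * x.1 * a, (hn _).2 (by simp [mul_assoc])⟩
      left_inv := fun x => Subtype.ext (by simp [mul_assoc])
      right_inv := fun x => Subtype.ext (by simp [mul_assoc])
      map_mul' := fun x y => Subtype.ext (by simp [mul_assoc]) }
  have hne : (QuotientGroup.mk θ : Out ↥H) ≠ 1 := by
    intro e
    obtain ⟨g, hg⟩ := (QuotientGroup.eq_one_iff _).1 e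
    have e0 : g.1 * toPerm c.s * g.1⁻¹ = a * toPerm c.s * a⁻¹ := by
      have hS := congrArg (fun f : MulAut ↥H => ((f (gH h 0) : ↥H) : Equiv.Perm GolayPt)) hg
      have e1 : (gH h 0).1 = toPerm c.s := by simp [gH, Data.gens]
      simpa [θ, MulAut.conj_apply, e1] using hS
    have ecm : (g.1⁻¹ * a) * toPerm c.s = toPerm c.s * (g.1⁻¹ * a) := by
      have := congrArg (fun z => g.1⁻¹ * z * a) e0
      simpa [mul_assoc] using this.symm
    have hmem := mul_mem (inv_mem (h.le g.2)) ha
    obtain ⟨q, hq, hqo, hqe⟩ := h.covs _ hmem ecm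
    have hm := (h.spec q hqo (hqe.symm ▸ hmem)).1 (hs q hq)
    rw [hqe] at hm
    exact haH (by simpa using mul_mem g.2 hm)
  have : 1 < Nat.card (Out ↥H) := Finite.one_lt_card_iff_nontrivial.2 ⟨⟨_, _, hne⟩⟩
  omega

/-- generation from words for known generators -/
theorem gen_of_words {gs ts : List ℕ} {W : List (List ℕ)} (hW : eqL ts (W.map (evW gs)) = true)
    (hgs : ∀ g ∈ gs, okPerm g = true ∧ toPerm g ∈ H)
    (hts : Subgroup.closure {x | ∃ g ∈ ts, toPerm g = x} = H) :
    Subgroup.closure {x | ∃ g ∈ gs, toPerm g = x} = H := by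
  refine le_antisymm ((Subgroup.closure_le H).2 (by rintro _ ⟨g, hg, rfl⟩; exact (hgs g hg).2)) ?_
  conv_lhs => rw [← hts]
  rw [Subgroup.closure_le]
  rintro _ ⟨g, hg, rfl⟩
  obtain ⟨i, hi, rfl⟩ := List.getElem_of_mem hg
  have e := eqL_spec hW i
  rw [List.getD_eq_getElem _ _ hi] at e
  rw [e]
  by_cases hw : i < W.length
  · rw [List.getD_eq_getElem _ _ (by simpa using hw), List.getElem_map, (evW_spec (fun g hg => (hgs g hg).1) _).2]
    refine Subgroup.list_prod_mem _ fun x hx => ?_
    rw [List.mem_map] at hx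
    obtain ⟨j, -, rfl⟩ := hx
    by_cases hj : j < gs.length
    · rw [List.getD_eq_getElem _ _ hj]; exact Subgroup.subset_closure ⟨_, List.getElem_mem hj, rfl⟩
    · rw [List.getD_eq_default _ _ (by omega), toPerm_idp]; exact one_mem _
  · rw [List.getD_eq_default _ _ (by simpa using hw), toPerm_idp]; exact one_mem _

end

end CfsgLib.Golay.OutM
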