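import Cfsg.Agent.Lib.Golay.OutM.Cls
import Cfsg.Prelude.Def_Spor_Mathieu

/-! The outer automorphism groups of the five Mathieu groups (owner helper8). -/
set_option autoImplicit false
set_option linter.all false
set_option maxRecDepth 100000

namespace CfsgLib.Golay.OutM

open Cfsg CfsgLib.Golay CfsgLib.Golay.TwoFusion CfsgLib.Golay.Search
open scoped Pointwise

theorem pmask_lt {p : ℕ} (h : okPerm p = true) (m : ℕ) : pmask p m < 16777216 := by
  refine lt_of_lt_of_eq (b := 2 ^ 24) (Nat.lt_pow_two_of_testBit _ fun j hj => ?_) (by norm_num)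
  by_contra hne
  rw [Bool.not_eq_false, pmask_eq, testBit_pmGo] at hne
  obtain ⟨i, hi, -, rfl⟩ := hne
  exact absurd (img_lt h hi) (by omega)

theorem none_eq : (none : GolayPt) = pt 23 := by decide +kernel
theorem zero_eq : (some 0 : GolayPt) = pt 0 := by decide +kernel
theorem dod_eq : Spor.squareDodecad = toSet dodD := by decide +kernel

theorem fix_iff {q i : ℕ} (hq : okPerm q = true) (hi : i < 24) : img q i = i ↔ toPerm q (pt i) = pt i := by
  refine ⟨fun h => mem_stab_img hi hq h, fun h => ?_⟩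
  have := congrArg idx h
  rwa [idx_toPerm hq, idx_pt hi] at this

theorem dod_iff {q : ℕ} (hq : okPerm q = true) : pmask q dodD = dodD ↔ toPerm q • toSet dodD = toSet dodD := by
  rw [smul_toSet hq]
  refine ⟨fun h => by rw [h], fun h => ?_⟩
  exact same_mask (pmask_lt hq dodD) (by decide) h
where
  same_mask {a b : ℕ} (ha : a < 16777216) (hb : b < 16777216) (h : toSet a = toSet b) : a = b := toSet_inj ha hb h

theorem M23_eq : Spor.M23 = fixB 1 := by
  ext g
  rw [Spor.M23, Subgroup.mem_inf, MulAction.mem_stabilizer_iff, mem_fixB, none_eq]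
  constructor
  · rintro ⟨h, e⟩
    refine ⟨h, fun i hi => ?_⟩
    obtain rfl : i = 0 := by omega
    exact e
  · rintro ⟨h, e⟩; exact ⟨h, e 0 (by norm_num)⟩

theorem M22_eq : Spor.M22 = fixB 2 := by
  ext g
  rw [Spor.M22, Spor.M23, Subgroup.mem_inf, Subgroup.mem_inf, MulAction.mem_stabilizer_iff,
    MulAction.mem_stabilizer_iff, mem_fixB, none_eq, zero_eq]
  constructor
  · rintro ⟨⟨h, e⟩, e'⟩
    refine ⟨h, fun i hi => ?_⟩
    obtain rfl | rfl : i = 0 ∨ i = 1 := by omega
    exacts [e, e']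
  · rintro ⟨h, e⟩; exact ⟨⟨h, e 0 (by norm_num)⟩, e 1 (by norm_num)⟩

theorem M12_eq : Spor.M12 = S12 := by rw [Spor.M12, S12, dod_eq]

theorem M11_eq : Spor.M11 = S11 := by rw [Spor.M11, S11, M12_eq, zero_eq]

/-- the predicates -/
def B23 (q : ℕ) : Bool := img q 23 == 23
def B22 (q : ℕ) : Bool := (img q 23 == 23) && (img q 0 == 0)
def B12 (q : ℕ) : Bool := pmask q dodD == dodD
def B11 (q : ℕ) : Bool := (pmask q dodD == dodD) && (img q 0 == 0)

theorem gens_M24 : Subgroup.closure {x | ∃ g ∈ [genT, genS, genC], toPerm g = x} = M24 := by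
  conv_rhs => rw [← closure_gens]
  congr 1
  ext x; simp [eq_comm]

theorem chkLv12 : chkLv baseG12 trsG12 = true := by decide +kernel

theorem gens_S12 : Subgroup.closure {x | ∃ g ∈ trsG12.flatten, toPerm g = x} = S12 := by
  refine Subgroup.eq_of_le_of_card_ge ((Subgroup.closure_le _).2 (by rintro _ ⟨g, hg, rfl⟩; exact S12_trs g hg)) ?_
  refine le_trans (le_of_eq ?_) (prod_le_card chkLv12 fun p hp => Subgroup.subset_closure ⟨p, hp, rfl⟩)
  rw [card_S12]; decide +kernel

theorem chk24 : chk data24 (fun _ => true) cls0 cls1 = true ∧ eqL [genT, genS, genC] (words24.map (evW data24.gens)) = true := by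
  decide +kernel
theorem chk23 : chk data23 B23 cls0 cls1 = true ∧ eqL genG23 (words23.map (evW data23.gens)) = true := by
  decide +kernel
theorem chk22 : chk data22 B22 cls1 cls2 = true ∧ eqL genG22 (words22.map (evW data22.gens)) = true ∧
    cls1.all B22 = true ∧ inM24 genS = true ∧ img genS 23 = 0 ∧ img genS 0 = 23 := by
  decide +kernel
theorem chk12 : chk data12 B12 cls1 cls2 = true ∧ eqL trsG12.flatten (words12.map (evW data12.gens)) = true ∧
    cls1.all B12 = true ∧ pmask genS dodD = 16777215 ^^^ dodD ∧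
    pmask genS (16777215 ^^^ dodD) = dodD ∧ pmask genS dodD ≠ dodD := by
  decide +kernel
theorem chk11 : chk data11 B11 cls1 cls2 = true ∧ eqL genG11 (words11.map (evW data11.gens)) = true := by
  decide +kernel

theorem mk_hyp {H : Subgroup (Equiv.Perm GolayPt)} {c : Data} {B : ℕ → Bool} {ts : List ℕ} {W : List (List ℕ)}
    {cs ct : List ℕ} (hcs : Cover c.s cs) (hct : Cover c.t ct) (hp : c.p.Prime) (hle : H ≤ M24) (hspec : ∀ q, okPerm q = true → toPerm q ∈ M24 → (B q = true ↔ toPerm q ∈ H))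
    (hsq : ¬ c.p ^ 2 ∣ Nat.card H) (hc : chk c B cs ct = true) (hW : eqL ts (W.map (evW c.gens)) = true)
    (hts : Subgroup.closure {x | ∃ g ∈ ts, toPerm g = x} = H) : Hyp H c B cs ct := by
  refine ⟨hp, hle, hspec, hsq, hc, hcs, hct, gen_of_words hW (fun g hg => ?_) hts⟩
  simp only [chk, Bool.and_eq_true, List.all_eq_true] at hc
  have := hc.1.1.1.1.1.1.1.1.1.1 g hg
  exact ⟨okPerm_of_inM24 this.1, (hspec g (okPerm_of_inM24 this.1) (toPerm_mem_M24 this.1)).1 this.2⟩

theorem hyp24 : Hyp M24 data24 (fun _ => true) cls0 cls1 :=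
  mk_hyp cover0 cover1 (show Nat.Prime 23 by norm_num) le_rfl (fun q _ h => ⟨fun _ => h, fun _ => rfl⟩)
    (show ¬ 23 ^ 2 ∣ Nat.card M24 by rw [card_M24]; norm_num) chk24.1 chk24.2 gens_M24

theorem hyp23 : Hyp (fixB 1) data23 B23 cls0 cls1 :=
  mk_hyp cover0 cover1 (show Nat.Prime 23 by norm_num) (fixB_le 1) (fun q hq h => by
      rw [← M23_eq, Spor.M23, Subgroup.mem_inf, MulAction.mem_stabilizer_iff, none_eq, B23, beq_iff_eq,
        fix_iff hq (by norm_num)]
      exact ⟨fun e => ⟨h, e⟩, fun e => e.2⟩)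
    (show ¬ 23 ^ 2 ∣ Nat.card (fixB 1) by rw [card_fixB_two.1]; norm_num) chk23.1 chk23.2 gens_S23

theorem hyp22 : Hyp (fixB 2) data22 B22 cls1 cls2 :=
  mk_hyp cover1 cover2 (show Nat.Prime 11 by norm_num) (fixB_le 2) (fun q hq h => by
      rw [← M22_eq, Spor.M22, Spor.M23, Subgroup.mem_inf, Subgroup.mem_inf, MulAction.mem_stabilizer_iff,
        MulAction.mem_stabilizer_iff, none_eq, zero_eq, B22, Bool.and_eq_true, beq_iff_eq, beq_iff_eq,
        fix_iff hq (by norm_num), fix_iff hq (by norm_num)]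
      exact ⟨fun e => ⟨⟨h, e.1⟩, e.2⟩, fun e => ⟨e.1.2, e.2⟩⟩)
    (show ¬ 11 ^ 2 ∣ Nat.card (fixB 2) by rw [card_fixB_two.2.1]; norm_num) chk22.1 chk22.2.1 gens_S22

theorem hyp12 : Hyp S12 data12 B12 cls1 cls2 :=
  mk_hyp cover1 cover2 (show Nat.Prime 11 by norm_num) S12_le (fun q hq h => by
      rw [S12, Subgroup.mem_inf, MulAction.mem_stabilizer_iff, B12, beq_iff_eq, dod_iff hq]
      exact ⟨fun e => ⟨h, e⟩, fun e => e.2⟩)
    (show ¬ 11 ^ 2 ∣ Nat.card S12 by rw [card_S12]; norm_num) chk12.1 chk12.2.1 gens_S12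

theorem hyp11 : Hyp S11 data11 B11 cls1 cls2 :=
  mk_hyp cover1 cover2 (show Nat.Prime 11 by norm_num) S11_le (fun q hq h => by
      rw [S11, S12, Subgroup.mem_inf, Subgroup.mem_inf, MulAction.mem_stabilizer_iff, mem_stab_pt, B11,
        Bool.and_eq_true, beq_iff_eq, beq_iff_eq, dod_iff hq, fix_iff hq (by norm_num)]
      exact ⟨fun e => ⟨⟨h, e.1⟩, e.2⟩, fun e => ⟨e.1.2, e.2⟩⟩)
    (show ¬ 11 ^ 2 ∣ Nat.card S11 by rw [card_S11]; norm_num) chk11.1 chk11.2 gens_S11

theorem out_M24 : Nat.card (Out ↥M24) = 1 := card_out_one hyp24 rfl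
theorem out_M23 : Nat.card (Out ↥Spor.M23) = 1 := by rw [M23_eq]; exact card_out_one hyp23 rfl
theorem out_M11 : Nat.card (Out ↥Spor.M11) = 1 := by rw [M11_eq]; exact card_out_one hyp11 rfl

theorem genS_mem : toPerm genS ∈ M24 ∧ okPerm genS = true :=
  ⟨toPerm_mem_M24 chk22.2.2.2.1, okPerm_of_inM24 chk22.2.2.2.1⟩

theorem out_M22 : Nat.card (Out ↥Spor.M22) = 2 := by
  rw [M22_eq]
  obtain ⟨-, -, hs, -, h23, h0⟩ := chk22
  obtain ⟨ha, hok⟩ := genS_mem
  set a := toPerm genS with haDef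
  have a1 : a (bp 0) = bp 1 := by rw [bp_zero, bp_one, haDef, toPerm_apply hok, idx_pt (by norm_num), h23]
  have a2 : a (bp 1) = bp 0 := by rw [bp_zero, bp_one, haDef, toPerm_apply hok, idx_pt (by norm_num), h0]
  have i1 : a⁻¹ (bp 0) = bp 1 := by rw [Equiv.Perm.inv_eq_iff_eq, a2]
  have i2 : a⁻¹ (bp 1) = bp 0 := by rw [Equiv.Perm.inv_eq_iff_eq, a1]
  refine card_out_two hyp22 rfl (List.all_eq_true.1 hs) ha (fun hm => ?_) fun x => ?_
  · have := hm.2 0 (by norm_num)
    rw [a1] at this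
    exact absurd (bp_inj 1 (by norm_num) 0 (by norm_num) this) (by norm_num)
  · rw [mem_fixB, mem_fixB]
    refine and_congr ⟨fun h => mul_mem (mul_mem ha h) (inv_mem ha), fun h => by
      simpa [mul_assoc] using mul_mem (mul_mem (inv_mem ha) h) ha⟩ ⟨fun h i hi => ?_, fun h i hi => ?_⟩
    · obtain rfl | rfl : i = 0 ∨ i = 1 := by omega
      · rw [Equiv.Perm.mul_apply, Equiv.Perm.mul_apply, i1, h 1 (by norm_num), a2]
      · rw [Equiv.Perm.mul_apply, Equiv.Perm.mul_apply, i2, h 0 (by norm_num), a1]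
    · obtain rfl | rfl : i = 0 ∨ i = 1 := by omega
      · have := h 1 (by norm_num)
        rw [Equiv.Perm.mul_apply, Equiv.Perm.mul_apply, i2, ← a1] at this
        exact a.injective this
      · have := h 0 (by norm_num)
        rw [Equiv.Perm.mul_apply, Equiv.Perm.mul_apply, i1, ← a2] at this
        exact a.injective this

theorem out_M12 : Nat.card (Out ↥Spor.M12) = 2 := by
  rw [M12_eq]
  obtain ⟨-, -, hs, h1, h2, h3⟩ := chk12
  obtain ⟨ha, hok⟩ := genS_mem
  set a := toPerm genS with haDef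
  refine card_out_two hyp12 rfl (List.all_eq_true.1 hs) ha (fun hm => ?_) fun x => ?_
  · exact h3 ((dod_iff hok).2 (MulAction.mem_stabilizer_iff.1 hm.2))
  · set d := toSet dodD
    have e1 : a • d = toSet (16777215 ^^^ dodD) := by rw [haDef, smul_toSet hok, h1]
    have e2 : a⁻¹ • d = toSet (16777215 ^^^ dodD) := by
      rw [inv_smul_eq_iff, haDef, smul_toSet hok, h2]
    have hc : toSet (16777215 ^^^ dodD) = dᶜ := toSet_compl dodD
    rw [S12, Subgroup.mem_inf, Subgroup.mem_inf]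
    refine and_congr ⟨fun h => mul_mem (mul_mem ha h) (inv_mem ha), fun h => by
      simpa [mul_assoc] using mul_mem (mul_mem (inv_mem ha) h) ha⟩ ?_
    rw [MulAction.mem_stabilizer_iff, MulAction.mem_stabilizer_iff, mul_smul, mul_smul, e2, hc, smul_compl' x]
    conv_rhs => rw [← eq_inv_smul_iff, e2, hc, compl_inj_iff]

end CfsgLib.Golay.OutM
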